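import Cfsg.Agent.H83.ThMult.Engine

/-!
Generated: the 39 relators as words in sixteen letters.
-/

set_option autoImplicit false

namespace Cfsg.Agent.H83.ThMult

/-- the relators -/
def relWords : List (List ℕ) :=
  [[0, 0],
   [2, 2],
   [4, 4],
   [6, 6],
   [8, 8],
   [0, 2, 0, 2, 0, 2],
   [0, 8, 0, 8],
   [2, 4, 2, 4, 2, 4],
   [2, 6, 2, 6],
   [2, 8, 2, 8],
   [0, 7, 5, 7, 5, 7, 5, 7, 5],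
   [4, 8, 4, 8],
   [6, 8, 6, 8, 6, 8],
   [2, 4, 6, 8, 2, 4, 6, 8, 2, 4, 6, 8, 2, 4, 6, 8, 2, 4, 6, 8, 2, 4, 6, 8, 2, 4, 6, 8, 2, 4, 6, 8],
   [10, 10, 10, 10, 10, 10, 10],
   [11, 1, 10, 0],
   [11, 3, 10, 2],
   [11, 5, 10, 4],
   [10, 6, 10, 6],
   [9, 11, 8, 10, 11, 11, 11, 9, 10, 10, 10],
   [12, 12, 12],
   [13, 1, 12, 0],
   [13, 3, 12, 2],
   [13, 5, 12, 4],
   [13, 7, 12, 6],
   [13, 9, 12, 8],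
   [13, 10, 12, 11, 11],
   [14, 14, 5, 1],
   [15, 1, 14, 0],
   [15, 5, 14, 4],
   [15, 9, 14, 8],
   [6, 8, 15, 6, 14, 6, 8, 15, 6, 14],
   [15, 3, 5, 1, 2, 14, 3, 0, 4, 2, 9],
   [7, 15, 6, 3, 5, 1, 2, 7, 14, 6, 3, 0, 4, 2, 5, 9, 7, 15, 6, 3, 5, 1, 2, 9, 15],
   [15, 12, 14, 12],
   [9, 11, 11, 15, 10, 10, 8, 11, 11, 14, 10, 10],
   [0, 4, 11, 15, 11, 15, 11, 15],
   [0, 4, 11, 15, 10, 14, 11, 15, 10, 14, 11, 15, 10, 14, 11, 15, 10, 14],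
   [6, 11, 11, 14, 10, 10, 6, 11, 11, 14, 10, 10, 6, 11, 11, 14, 10, 10, 6, 11, 11, 14, 10, 10, 11, 11, 9, 7, 5, 6, 8, 10, 10, 10, 9, 7, 5, 6, 8, 11, 7, 5, 6, 5, 1]]

end Cfsg.Agent.H83.ThMult
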