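import Cfsg.Agent.H83.ThMult.Data.RelData

/-!
Generated: labelled coset facts, stage A10.
-/

set_option autoImplicit false
set_option maxRecDepth 100000
set_option Elab.async false

namespace Cfsg.Agent.H83.ThMult

open Cfsg.Agent.H25.Fi23 (Tr)

/-- facts -/
def trA10_0 : Tr :=
  .node 5 (.node 2 (.node 1 (.leaf 0xc0000100000) (.leaf 0xd0000200000)) (.node 3 (.leaf 0xe0000300000) (.node 4 (.leaf 0xe0000400001) (.leaf 0xe0000500002)))) (.node 8 (.node 6 (.leaf 0xc0000600003) (.node 7 (.leaf 0x2c0000200001) (.leaf 0x2c0000300004))) (.node 9 (.leaf 0xc0000400006) (.node 10 (.leaf 0x1f0000600005) (.leaf 0x3f0000500005))))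

/-- certificate -/
def certA10 : LCert where
  F := trA10_0
  W := relWords
  RP := [[], [], [], [], [], [], [], [], [], [], [0], [], [], [], [0], [0], [0], [0], [], [0], [1], [0], [0], [0], [0], [], [0], [], [0], [0], [], [], [], [], [1], [], [], [], []]
  RN := [[], [], [], [], [], [], [], [], [], [], [0], [], [], [], [0], [0], [0], [0], [], [0], [0], [0], [0], [0], [0], [], [0], [], [0], [0], [], [], [], [], [0], [], [], [], []]
  keep := [10, 14, 15, 16, 17, 19, 20, 21, 22, 23, 24, 26, 28, 29, 34]
  nd := 6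
  nl := 0
  ms := []
  K := 1

/-- justifications -/
def codeA10_0 : List ℕ :=
  [0x0,
   0x0,
   0x0,
   0x0,
   0x0,
   0x0,
   0xc00004015,
   0x2800008000100e3,
   0x4000018095,
   0x1200003800038000140e3,
   0x12000030000300003000026023]

theorem rangeA10_0 : FRange certA10 0 11 :=
  factsFrom_sound (cs := codeA10_0) (by decide +kernel) rfl

theorem rangeA10 : FRange certA10 0 11 :=
  rangeA10_0

/-- combination for relator 34 -/
def combA10_34 : List (ℕ × ℕ × ℕ) :=
  [(10, 1, 0)]

theorem combA10_34_ok : combOK certA10 11 combA10_34 [1] = true := by decide +kernel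

end Cfsg.Agent.H83.ThMult
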