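import Cfsg.Agent.H83.ThMult.Data.RelData

/-!
Generated: labelled coset facts, stage A2.
-/

set_option autoImplicit false
set_option maxRecDepth 100000
set_option Elab.async false

namespace Cfsg.Agent.H83.ThMult

open Cfsg.Agent.H25.Fi23 (Tr)

/-- facts -/
def trA2_0 : Tr :=
  .node 15 (.node 7 (.node 3 (.node 1 (.leaf 0xa0000100000) (.node 2 (.leaf 0xd0000200000) (.leaf 0xc0000300000))) (.node 5 (.node 4 (.leaf 0x20000400000) (.leaf 0x500000)) (.node 6 (.leaf 0xa0000600001) (.leaf 0x20000700001)))) (.node 11 (.node 9 (.node 8 (.leaf 0xa0000800002) (.leaf 0x20000900002)) (.node 10 (.leaf 0xa00002) (.leaf 0x20000b00003))) (.node 13 (.node 12 (.leaf 0xc00003) (.leaf 0xc0000d00004)) (.node 14 (.leaf 0xc0000e00005) (.leaf 0x20000f00006))))) (.node 23 (.node 19 (.node 17 (.node 16 (.leaf 0x20001000008) (.leaf 0x200000000000000000000000000000000000000000000000000000000c0000200003)) (.node 18 (.leaf 0x20000000000000000d0000900004) (.leaf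 0x20000000000000000000000000000000000000000000000000000000000000000b0000400007))) (.node 21 (.node 20 (.leaf 0x200000000d0000a00005) (.leaf 0xc0000600008)) (.node 22 (.leaf 0x20000000000000000000000000000000000000000000000000000000000000000b000070000f) (.leaf 0x2000000000000000000000000000000000000000000020000000000000000d0000b00009)))) (.node 27 (.node 25 (.node 24 (.leaf 0x40000000000000001f0000b0000d) (.leaf 0x20000000000000000000000000000000000000000000000000000000000000000b0000900010)) (.node 26 (.leaf 0x200000000000000000000000000000000000000000000000200000000c0000a0000e) (.leaf 0x400000001f0000c0000e))) (.node 29 (.node 28 (.leaf 0x200000000000000000000000000000000000000000000000200000000000000000000c0000f00010) (.leaf 0x60000000000000001f0000b0000b)) (.node 30 (.leaf 0x600000001f0000c0000c) (.leaf 0x200000000000000000000000000000000000000000000000000000000000000000001f0000f0000f)))))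

/-- certificate -/
def certA2 : LCert where
  F := trA2_0
  W := relWords
  RP := [[], [], [], [], [], [], [], [], [], [], [0, 0, 0, 0, 0, 0, 0, 0, 0], [], [], [], [0, 0, 0, 0, 0, 0, 0, 0, 0], [0, 0, 0, 0, 0, 0, 0, 0, 0], [0, 0, 0, 0, 0, 0, 0, 0, 1], [1, 0, 0, 0, 0, 0, 0, 0, 0], [], [0, 0, 0, 0, 0, 0, 0, 0, 0], [0, 0, 0, 0, 0, 0, 0, 1, 0], [0, 1, 0, 0, 0, 0, 0, 0, 0], [0, 0, 1, 0, 0, 0, 0, 0, 0], [0, 0, 0, 1, 0, 0, 0, 0, 0], [0, 0, 0, 0, 1, 0, 0, 0, 0], [], [0, 0, 0, 0, 0, 0, 0, 0, 0], [], [0, 0, 0, 0, 0, 1, 0, 0, 0], [0, 0, 0, 0, 0, 0, 1, 0, 0], [], [], [], [], [0, 0, 0, 0, 0, 0, 0, 1, 0], [], [], [], []]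
  RN := [[], [], [], [], [], [], [], [], [], [], [0, 0, 0, 0, 0, 0, 0, 0, 0], [], [], [], [0, 0, 0, 0, 0, 0, 0, 0, 0], [0, 0, 0, 0, 0, 0, 0, 0, 0], [0, 0, 0, 0, 0, 0, 0, 0, 0], [0, 0, 0, 0, 0, 0, 0, 0, 0], [], [0, 0, 0, 0, 0, 0, 0, 0, 0], [0, 0, 0, 0, 0, 0, 0, 0, 0], [0, 0, 0, 0, 0, 0, 0, 0, 0], [0, 0, 0, 0, 0, 0, 0, 0, 0], [0, 0, 0, 0, 0, 0, 0, 0, 0], [0, 0, 0, 0, 0, 0, 0, 0, 0], [], [0, 0, 0, 0, 0, 0, 0, 0, 0], [], [0, 0, 0, 0, 0, 0, 0, 0, 0], [0, 0, 0, 0, 0, 0, 0, 0, 0], [], [], [], [], [0, 0, 0, 0, 0, 0, 0, 0, 0], [], [], [], []]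
  keep := [10, 14, 15, 16, 17, 19, 20, 21, 22, 23, 24, 26, 28, 29, 34]
  nd := 16
  nl := 0
  ms := []
  K := 9

/-- justifications -/
def codeA2_0 : List ℕ :=
  [0x0,
   0x0,
   0x0,
   0x0,
   0x0,
   0x0,
   0x0,
   0x0,
   0x0,
   0x0,
   0x0,
   0x0,
   0x0,
   0x0,
   0x0,
   0x0,
   0xc0000c055,
   0x880000c00010017,
   0x38000080001c011,
   0x980000c00014016,
   0xb000008000100002009b,
   0x68000300003c011,
   0xa80008800024017,
   0x1680008c00034055,
   0x880004000040011,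
   0x9c00038055,
   0x170001100005000066056,
   0x2c000130000900006209b,
   0x5e00019000038000180002c017,
   0x6a0001b0000480001800030016,
   0x370000f8000a80003c017]

theorem rangeA2_0 : FRange certA2 0 31 :=
  factsFrom_sound (cs := codeA2_0) (by decide +kernel) rfl

theorem rangeA2 : FRange certA2 0 31 :=
  rangeA2_0

/-- combination for relator 16 -/
def combA2_16 : List (ℕ × ℕ × ℕ) :=
  [(30, 0, 1)]

theorem combA2_16_ok : combOK certA2 31 combA2_16 [0, 0, 0, 0, 0, 0, 0, 0, 1] = true := by decide +kernel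

end Cfsg.Agent.H83.ThMult
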