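import Cfsg.Agent.H83.ThMult.Data.RelData

/-!
Generated: labelled coset facts, stage A4.
-/

set_option autoImplicit false
set_option maxRecDepth 100000
set_option Elab.async false

namespace Cfsg.Agent.H83.ThMult

open Cfsg.Agent.H25.Fi23 (Tr)

/-- facts -/
def trA4_0 : Tr :=
  .node 15 (.node 7 (.node 3 (.node 1 (.leaf 0x100000) (.node 2 (.leaf 0xc0000200000) (.leaf 0xd0000300000))) (.node 5 (.node 4 (.leaf 0xe0000400000) (.leaf 0xc0000500001)) (.node 6 (.leaf 0xd0000600001) (.leaf 0xe0000700001)))) (.node 11 (.node 9 (.node 8 (.leaf 0x800002) (.leaf 0xe0000900002)) (.node 10 (.leaf 0xa00003) (.leaf 0xe0000b00003))) (.node 13 (.node 12 (.leaf 0xc00004) (.leaf 0xc0000d00004)) (.node 14 (.leaf 0xe0000e00005) (.leaf 0xe0000f00006))))) (.node 23 (.node 19 (.node 17 (.node 16 (.leaf 0xc0001000007) (.leaf 0x110000b)) (.node 18 (.leaf 0x20000000000000000000000000000000000000000c0000300002) (.leaf 0x20000000000000000000000000000000000000000c0000400009)))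 (.node 21 (.node 20 (.leaf 0x20000000000000000000000000000000000000000c0000600005) (.leaf 0x2000000000000000000000000000000000000000000000001f0000500008)) (.node 22 (.leaf 0x4000000000000000000000000000000000000000000000001f000060000a) (.leaf 0x2000000000000000000000001f000070000c)))) (.node 27 (.node 25 (.node 24 (.leaf 0x20000000000000000000000000000000000000000c000070000e) (.leaf 0xc000090000d)) (.node 26 (.leaf 0x1f0000d0000b) (.leaf 0xc0000e00010))) (.node 29 (.node 28 (.leaf 0x1f000100000f) (.leaf 0x2000000000000000000000002000000000000000000000001f0000f00011)) (.node 30 (.leaf 0x20000000000000000000000000000000000000001f0000b0000b) (.leaf 0x2000000000000000000000000000000000000000000000001f0000f0000f)))))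

/-- certificate -/
def certA4 : LCert where
  F := trA4_0
  W := relWords
  RP := [[], [], [], [], [], [], [], [], [], [], [0, 0, 0, 0, 0, 0, 0], [], [], [], [0, 0, 0, 0, 0, 0, 0], [0, 0, 0, 0, 0, 0, 0], [0, 0, 0, 0, 0, 0, 0], [0, 0, 0, 0, 0, 0, 0], [], [0, 0, 0, 0, 0, 0, 0], [0, 0, 0, 0, 0, 1, 0], [0, 0, 0, 0, 0, 0, 1], [1, 0, 0, 0, 0, 0, 0], [0, 1, 0, 0, 0, 0, 0], [0, 0, 1, 0, 0, 0, 0], [], [0, 0, 0, 0, 0, 0, 0], [], [0, 0, 0, 1, 0, 0, 0], [0, 0, 0, 0, 1, 0, 0], [], [], [], [], [0, 0, 0, 0, 0, 1, 0], [], [], [], []]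
  RN := [[], [], [], [], [], [], [], [], [], [], [0, 0, 0, 0, 0, 0, 0], [], [], [], [0, 0, 0, 0, 0, 0, 0], [0, 0, 0, 0, 0, 0, 0], [0, 0, 0, 0, 0, 0, 0], [0, 0, 0, 0, 0, 0, 0], [], [0, 0, 0, 0, 0, 0, 0], [0, 0, 0, 0, 0, 0, 0], [0, 0, 0, 0, 0, 0, 0], [0, 0, 0, 0, 0, 0, 0], [0, 0, 0, 0, 0, 0, 0], [0, 0, 0, 0, 0, 0, 0], [], [0, 0, 0, 0, 0, 0, 0], [], [0, 0, 0, 0, 0, 0, 0], [0, 0, 0, 0, 0, 0, 0], [], [], [], [], [0, 0, 0, 0, 0, 0, 0], [], [], [], []]
  keep := [10, 14, 15, 16, 17, 19, 20, 21, 22, 23, 24, 26, 28, 29, 34]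
  nd := 17
  nl := 0
  ms := []
  K := 7

/-- justifications -/
def codeA4_0 : List ℕ :=
  [0x0,
   0x0,
   0x0,
   0x0,
   0x0,
   0x0,
   0x0,
   0x0,
   0x0,
   0x0,
   0x0,
   0x0,
   0x0,
   0x0,
   0x0,
   0x0,
   0x0,
   0x1400008015,
   0x3800010000240e3,
   0x2c00014015,
   0x90000080001000020016,
   0x4e000290000780009000028016,
   0xd000008000200003001d,
   0x6800028000380e3,
   0x9800034095,
   0x32000088000900002c0e3,
   0xc000040095,
   0x360000d8000a00003c0e3,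
   0x1c00007c0005a000170000d0000cc00044016,
   0x2a000050000400006800066023,
   0x7400056000130000b0000880007401d]

theorem rangeA4_0 : FRange certA4 0 31 :=
  factsFrom_sound (cs := codeA4_0) (by decide +kernel) rfl

theorem rangeA4 : FRange certA4 0 31 :=
  rangeA4_0

/-- combination for relator 21 -/
def combA4_21 : List (ℕ × ℕ × ℕ) :=
  [(30, 1, 0)]

theorem combA4_21_ok : combOK certA4 31 combA4_21 [0, 0, 0, 0, 0, 0, 1] = true := by decide +kernel

end Cfsg.Agent.H83.ThMult
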