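import Cfsg.Agent.H83.ThMult.Data.RelData

/-!
Generated: labelled coset facts, stage A5.
-/

set_option autoImplicit false
set_option maxRecDepth 100000
set_option Elab.async false

namespace Cfsg.Agent.H83.ThMult

open Cfsg.Agent.H25.Fi23 (Tr)

/-- facts -/
def trA5_0 : Tr :=
  .node 13 (.node 6 (.node 3 (.node 1 (.leaf 0x30000100000) (.node 2 (.leaf 0xd0000200000) (.leaf 0xc0000300000))) (.node 4 (.leaf 0xe0000400000) (.node 5 (.leaf 0x20000500000) (.leaf 0xd0000600001)))) (.node 9 (.node 7 (.leaf 0xe0000700002) (.node 8 (.leaf 0xe0000800003) (.leaf 0x30000900004))) (.node 11 (.node 10 (.leaf 0xd0000a00004) (.leaf 0x30000b00007)) (.node 12 (.leaf 0x30000c00008) (.leaf 0xd0000d00009))))) (.node 19 (.node 16 (.node 14 (.leaf 0x3f0000100005) (.node 15 (.leaf 0x2000000000000000000000000000000000002000030000200006) (.leaf 0x2000000000000000000000000000000000000000020000200006))) (.node 17 (.leaf 0x200000000000000000000000000000000c0000200003)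 (.node 18 (.leaf 0x200000000000000000000000000000000c0000700004) (.leaf 0xc0000800007)))) (.node 22 (.node 20 (.leaf 0x1f0000a00008) (.node 21 (.leaf 0x20000000200000000000000000000000000000000c0000b00009) (.leaf 0x20000000000000000000000000000000000000000c0000c0000b))) (.node 24 (.node 23 (.leaf 0x400000000000000000000000000000000000000000001f0000d0000c) (.leaf 0x40000000000000000000000000000000000000001f0000600006)) (.node 25 (.leaf 0x200000000000000000000000000000001f0000800008) (.leaf 0x60000000000000000000000000000000000000001f0000c0000c)))))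

/-- certificate -/
def certA5 : LCert where
  F := trA5_0
  W := relWords
  RP := [[], [1, 0, 0, 0, 0, 0], [0, 1, 0, 0, 0, 0], [0, 0, 1, 0, 0, 0], [], [0, 1, 0, 0, 0, 0], [], [1, 0, 0, 0, 0, 0], [], [], [0, 0, 0, 0, 0, 0], [], [0, 0, 1, 0, 0, 0], [], [0, 0, 0, 0, 0, 0], [0, 0, 0, 0, 0, 0], [0, 0, 0, 0, 0, 0], [0, 0, 0, 0, 0, 0], [], [0, 0, 0, 0, 0, 0], [0, 0, 0, 0, 1, 0], [0, 0, 0, 0, 0, 0], [0, 0, 0, 0, 0, 1], [], [], [], [0, 0, 0, 0, 0, 0], [0, 0, 0, 1, 0, 0], [], [], [], [], [], [], [0, 0, 0, 0, 1, 0], [], [0, 0, 0, 0, 0, 0], [], []]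
  RN := [[], [0, 0, 0, 0, 0, 0], [0, 0, 0, 0, 0, 0], [0, 0, 0, 0, 0, 0], [], [0, 0, 0, 0, 0, 0], [], [0, 0, 0, 0, 0, 0], [], [], [0, 0, 0, 0, 0, 0], [], [0, 0, 0, 0, 0, 0], [], [0, 0, 0, 0, 0, 0], [0, 0, 0, 0, 0, 0], [0, 0, 0, 0, 0, 0], [0, 0, 0, 0, 0, 0], [], [0, 0, 0, 0, 0, 0], [0, 0, 0, 0, 0, 0], [0, 0, 0, 0, 0, 0], [0, 0, 0, 0, 0, 0], [], [], [], [0, 0, 0, 0, 0, 0], [0, 0, 0, 0, 0, 0], [], [], [], [], [], [], [0, 0, 0, 0, 0, 0], [], [0, 0, 0, 1, 0, 0], [], []]
  keep := [1, 2, 3, 5, 7, 10, 12, 14, 15, 16, 17, 19, 20, 21, 22, 26, 27, 34, 36]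
  nd := 13
  nl := 0
  ms := []
  K := 6

/-- justifications -/
def codeA5_0 : List ℕ :=
  [0x0,
   0x0,
   0x0,
   0x0,
   0x0,
   0x0,
   0x0,
   0x0,
   0x0,
   0x0,
   0x0,
   0x0,
   0x0,
   0x400014002,
   0x30000500007000018057,
   0x3a042,
   0xc0000c055,
   0x680000c000100e3,
   0x78000880001c0e3,
   0x98000900004c015,
   0xa80008c00024097,
   0xb8000940002c097,
   0xc8000a800058015,
   0xb000008000100003e097,
   0x500001300003800018000200e3,
   0xb800032000110000a00009c00030097]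

theorem rangeA5_0 : FRange certA5 0 26 :=
  factsFrom_sound (cs := codeA5_0) (by decide +kernel) rfl

theorem rangeA5 : FRange certA5 0 26 :=
  rangeA5_0

/-- combination for relator 22 -/
def combA5_22 : List (ℕ × ℕ × ℕ) :=
  [(23, 0, 1), (25, 1, 0)]

theorem combA5_22_ok : combOK certA5 26 combA5_22 [0, 0, 0, 0, 0, 1] = true := by decide +kernel

end Cfsg.Agent.H83.ThMult
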