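import Cfsg.Agent.H83.ThMult.Data.RelData

/-!
Generated: labelled coset facts, stage A6.
-/

set_option autoImplicit false
set_option maxRecDepth 100000
set_option Elab.async false

namespace Cfsg.Agent.H83.ThMult

open Cfsg.Agent.H25.Fi23 (Tr)

/-- facts -/
def trA6_0 : Tr :=
  .node 7 (.node 3 (.node 1 (.leaf 0xc0000100000) (.node 2 (.leaf 0x40000200000) (.leaf 0x50000300000))) (.node 5 (.node 4 (.leaf 0xd0000400000) (.leaf 0x40000500001)) (.node 6 (.leaf 0xd0000600002) (.leaf 0x40000700004)))) (.node 10 (.node 8 (.leaf 0x200000000000000000000000000000000c0000400001) (.node 9 (.leaf 0x200000001f0000300002) (.leaf 0x20000000000000000000000000000000000000000d0000200005))) (.node 12 (.node 11 (.leaf 0x2000000000000000000000000000200000000000050000600004) (.leaf 0x20000000200000000000000000000000000000000c0000600005)) (.node 13 (.leaf 0x40000000000000000000000000000000000000001f0000600007) (.leaf 0x200000000000000000000000000000000000000000001f0000600006))))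

/-- certificate -/
def certA6 : LCert where
  F := trA6_0
  W := relWords
  RP := [[], [1, 0, 0, 0, 0, 0], [0, 1, 0, 0, 0, 0], [0, 0, 1, 0, 0, 0], [], [0, 1, 0, 0, 0, 0], [], [1, 0, 0, 0, 0, 0], [], [], [0, 0, 0, 0, 0, 0], [], [0, 0, 1, 0, 0, 0], [], [0, 0, 0, 0, 0, 0], [0, 0, 0, 0, 0, 0], [0, 0, 0, 0, 0, 0], [0, 0, 0, 0, 0, 0], [], [0, 0, 0, 0, 0, 0], [0, 0, 0, 0, 1, 0], [0, 0, 0, 0, 0, 0], [0, 0, 0, 0, 0, 0], [0, 0, 0, 0, 0, 1], [], [], [0, 0, 0, 0, 0, 0], [0, 0, 0, 1, 0, 0], [], [], [], [], [], [], [0, 0, 0, 0, 1, 0], [], [0, 0, 0, 0, 0, 0], [], []]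
  RN := [[], [0, 0, 0, 0, 0, 0], [0, 0, 0, 0, 0, 0], [0, 0, 0, 0, 0, 0], [], [0, 0, 0, 0, 0, 0], [], [0, 0, 0, 0, 0, 0], [], [], [0, 0, 0, 0, 0, 0], [], [0, 0, 0, 0, 0, 0], [], [0, 0, 0, 0, 0, 0], [0, 0, 0, 0, 0, 0], [0, 0, 0, 0, 0, 0], [0, 0, 0, 0, 0, 0], [], [0, 0, 0, 0, 0, 0], [0, 0, 0, 0, 0, 0], [0, 0, 0, 0, 0, 0], [0, 0, 0, 0, 0, 0], [0, 0, 0, 0, 0, 0], [], [], [0, 0, 0, 0, 0, 0], [0, 0, 0, 0, 0, 0], [], [], [], [], [], [], [0, 0, 0, 0, 0, 0], [], [0, 0, 0, 1, 0, 0], [], []]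
  keep := [1, 2, 3, 5, 7, 10, 12, 14, 15, 16, 17, 19, 20, 21, 22, 23, 26, 27, 34, 36]
  nd := 7
  nl := 0
  ms := []
  K := 6

/-- justifications -/
def codeA6_0 : List ℕ :=
  [0x0,
   0x0,
   0x0,
   0x0,
   0x0,
   0x0,
   0x0,
   0x1c00004015,
   0x1400008043,
   0x180000800014018,
   0xb0000900001400010058,
   0x2c00026015,
   0x17000048000400001c018,
   0xa80003800034043]

theorem rangeA6_0 : FRange certA6 0 14 :=
  factsFrom_sound (cs := codeA6_0) (by decide +kernel) rfl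

theorem rangeA6 : FRange certA6 0 14 :=
  rangeA6_0

/-- combination for relator 23 -/
def combA6_23 : List (ℕ × ℕ × ℕ) :=
  [(13, 0, 1)]

theorem combA6_23_ok : combOK certA6 14 combA6_23 [0, 0, 0, 0, 0, 1] = true := by decide +kernel

end Cfsg.Agent.H83.ThMult
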