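import Cfsg.Agent.H83.ThMult.Data.RelData

/-!
Generated: labelled coset facts, stage A7.
-/

set_option autoImplicit false
set_option maxRecDepth 100000
set_option Elab.async false

namespace Cfsg.Agent.H83.ThMult

open Cfsg.Agent.H25.Fi23 (Tr)

/-- facts -/
def trA7_0 : Tr :=
  .node 8 (.node 4 (.node 2 (.node 1 (.leaf 0xc0000100000) (.leaf 0x70000200000)) (.node 3 (.leaf 0x60000300000) (.leaf 0xd0000400000))) (.node 6 (.node 5 (.leaf 0x70000500001) (.leaf 0x60000600001)) (.node 7 (.leaf 0xd0000700002) (.leaf 0x60000800004)))) (.node 12 (.node 10 (.node 9 (.leaf 0x200000000000000000000000000000000c0000400001) (.leaf 0x20000000000000001f0000200003)) (.node 11 (.leaf 0x20000000000000000000000020000000000000000d0000200006) (.leaf 0x2000000000000000000000000000000000000000070000700004))) (.node 14 (.node 13 (.leaf 0x20000000000000001f0000500006) (.leaf 0x20002000000000000000000020000000000000000d0000500008))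 (.node 15 (.leaf 0x40000000000000000000000020000000000000001f0000700008) (.leaf 0x200000000000000000000000000000000000000000001f0000700007))))

/-- certificate -/
def certA7 : LCert where
  F := trA7_0
  W := relWords
  RP := [[], [1, 0, 0, 0, 0, 0], [0, 1, 0, 0, 0, 0], [0, 0, 1, 0, 0, 0], [], [0, 1, 0, 0, 0, 0], [], [1, 0, 0, 0, 0, 0], [], [], [0, 0, 0, 0, 0, 0], [], [0, 0, 1, 0, 0, 0], [], [0, 0, 0, 0, 0, 0], [0, 0, 0, 0, 0, 0], [0, 0, 0, 0, 0, 0], [0, 0, 0, 0, 0, 0], [], [0, 0, 0, 0, 0, 0], [0, 0, 0, 0, 1, 0], [0, 0, 0, 0, 0, 0], [0, 0, 0, 0, 0, 0], [0, 0, 0, 0, 0, 0], [0, 0, 0, 0, 0, 1], [], [0, 0, 0, 0, 0, 0], [0, 0, 0, 1, 0, 0], [], [], [], [], [], [], [0, 0, 0, 0, 1, 0], [], [0, 0, 0, 0, 0, 0], [], []]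
  RN := [[], [0, 0, 0, 0, 0, 0], [0, 0, 0, 0, 0, 0], [0, 0, 0, 0, 0, 0], [], [0, 0, 0, 0, 0, 0], [], [0, 0, 0, 0, 0, 0], [], [], [0, 0, 0, 0, 0, 0], [], [0, 0, 0, 0, 0, 0], [], [0, 0, 0, 0, 0, 0], [0, 0, 0, 0, 0, 0], [0, 0, 0, 0, 0, 0], [0, 0, 0, 0, 0, 0], [], [0, 0, 0, 0, 0, 0], [0, 0, 0, 0, 0, 0], [0, 0, 0, 0, 0, 0], [0, 0, 0, 0, 0, 0], [0, 0, 0, 0, 0, 0], [0, 0, 0, 0, 0, 0], [], [0, 0, 0, 0, 0, 0], [0, 0, 0, 0, 0, 0], [], [], [], [], [], [], [0, 0, 0, 0, 0, 0], [], [0, 0, 0, 1, 0, 0], [], []]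
  keep := [1, 2, 3, 5, 7, 10, 12, 14, 15, 16, 17, 19, 20, 21, 22, 23, 24, 26, 27, 34, 36]
  nd := 8
  nl := 0
  ms := []
  K := 6

/-- justifications -/
def codeA7_0 : List ℕ :=
  [0x0,
   0x0,
   0x0,
   0x0,
   0x0,
   0x0,
   0x0,
   0x0,
   0x1c00004015,
   0xc0000c044,
   0x130000280000800018019,
   0x680000c00010059,
   0x2400018044,
   0x190000580004800020019,
   0xd0000a80006800036015,
   0xb8000400003c044]

theorem rangeA7_0 : FRange certA7 0 16 :=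
  factsFrom_sound (cs := codeA7_0) (by decide +kernel) rfl

theorem rangeA7 : FRange certA7 0 16 :=
  rangeA7_0

/-- combination for relator 24 -/
def combA7_24 : List (ℕ × ℕ × ℕ) :=
  [(15, 0, 1)]

theorem combA7_24_ok : combOK certA7 16 combA7_24 [0, 0, 0, 0, 0, 1] = true := by decide +kernel

end Cfsg.Agent.H83.ThMult
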