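import Cfsg.Agent.H83.ThMult.Data.RelData

/-!
Generated: labelled coset facts, stage A9.
-/

set_option autoImplicit false
set_option maxRecDepth 100000
set_option Elab.async false

namespace Cfsg.Agent.H83.ThMult

open Cfsg.Agent.H25.Fi23 (Tr)

/-- facts -/
def trA9_0 : Tr :=
  .node 6 (.node 3 (.node 1 (.leaf 0x40000100000) (.node 2 (.leaf 0x50000200000) (.leaf 0xe0000300000))) (.node 4 (.leaf 0xf0000400000) (.node 5 (.leaf 0x10000500001) (.leaf 0xe0000600001)))) (.node 9 (.node 7 (.leaf 0xf0000700004) (.node 8 (.leaf 0x200000001f0000200001) (.leaf 0x2000000000000000000000000000000020000000040000300006))) (.node 10 (.leaf 0x2000000000000000200000000000000020000000010000400006) (.node 11 (.leaf 0x2000000000000000200000001f0000700005) (.leaf 0x20000000000000000000000000000000000000001f0000600006))))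

/-- certificate -/
def certA9 : LCert where
  F := trA9_0
  W := relWords
  RP := [[], [1, 0, 0, 0, 0, 0], [0, 1, 0, 0, 0, 0], [0, 0, 1, 0, 0, 0], [], [0, 1, 0, 0, 0, 0], [], [1, 0, 0, 0, 0, 0], [], [], [0, 0, 0, 0, 0, 0], [], [0, 0, 1, 0, 0, 0], [], [0, 0, 0, 0, 0, 0], [0, 0, 0, 0, 0, 0], [0, 0, 0, 0, 0, 0], [0, 0, 0, 0, 0, 0], [], [0, 0, 0, 0, 0, 0], [0, 0, 0, 0, 1, 0], [0, 0, 0, 0, 0, 0], [0, 0, 0, 0, 0, 0], [0, 0, 0, 0, 0, 0], [0, 0, 0, 0, 0, 0], [], [0, 0, 0, 0, 0, 0], [0, 0, 0, 1, 0, 0], [0, 0, 0, 0, 0, 0], [0, 0, 0, 0, 0, 1], [], [], [], [], [0, 0, 0, 0, 1, 0], [], [0, 0, 0, 0, 0, 0], [], []]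
  RN := [[], [0, 0, 0, 0, 0, 0], [0, 0, 0, 0, 0, 0], [0, 0, 0, 0, 0, 0], [], [0, 0, 0, 0, 0, 0], [], [0, 0, 0, 0, 0, 0], [], [], [0, 0, 0, 0, 0, 0], [], [0, 0, 0, 0, 0, 0], [], [0, 0, 0, 0, 0, 0], [0, 0, 0, 0, 0, 0], [0, 0, 0, 0, 0, 0], [0, 0, 0, 0, 0, 0], [], [0, 0, 0, 0, 0, 0], [0, 0, 0, 0, 0, 0], [0, 0, 0, 0, 0, 0], [0, 0, 0, 0, 0, 0], [0, 0, 0, 0, 0, 0], [0, 0, 0, 0, 0, 0], [], [0, 0, 0, 0, 0, 0], [0, 0, 0, 0, 0, 0], [0, 0, 0, 0, 0, 0], [0, 0, 0, 0, 0, 0], [], [], [], [], [0, 0, 0, 0, 0, 0], [], [0, 0, 0, 1, 0, 0], [], []]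
  keep := [1, 2, 3, 5, 7, 10, 12, 14, 15, 16, 17, 19, 20, 21, 22, 23, 24, 26, 27, 28, 29, 34, 36]
  nd := 7
  nl := 0
  ms := []
  K := 6

/-- justifications -/
def codeA9_0 : List ℕ :=
  [0x0,
   0x0,
   0x0,
   0x0,
   0x0,
   0x0,
   0x0,
   0xc00004003,
   0x50000200003c000180de,
   0x3800018000220dc,
   0x1a000070000200003c0001401c,
   0x160000a0000b0000340002601d]

theorem rangeA9_0 : FRange certA9 0 12 :=
  factsFrom_sound (cs := codeA9_0) (by decide +kernel) rfl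

theorem rangeA9 : FRange certA9 0 12 :=
  rangeA9_0

/-- combination for relator 29 -/
def combA9_29 : List (ℕ × ℕ × ℕ) :=
  [(11, 1, 0)]

theorem combA9_29_ok : combOK certA9 12 combA9_29 [0, 0, 0, 0, 0, 1] = true := by decide +kernel

end Cfsg.Agent.H83.ThMult
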